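import Mathlib

/-!
Projectivity from projectivity modulo ideals.
-/

namespace Groth.Agent.CAlgProj

universe u

open TensorProduct

variable {R : Type u} [CommRing R] {P : Type u} [AddCommGroup P] [Module R P]

/-- Lifting property of a module whose reduction modulo `I` is projective. -/
theorem exists_lift_of_projective_mod (I : Ideal R) (hI : Module.Projective (R ⧸ I) ((R ⧸ I) ⊗[R] P))
    {N N' : Type u} [AddCommGroup N] [Module R N] [AddCommGroup N'] [Module R N'] (g : N →ₗ[R] N')
    (hg : Function.Surjective g) (hN : ∀ a ∈ I, ∀ x : N, a • x = 0) (h : P →ₗ[R] N') :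
    ∃ l : P →ₗ[R] N, g.comp l = h := by
  have hN' : ∀ a ∈ I, ∀ x : N', a • x = 0 := fun a ha x => by
    obtain ⟨y, rfl⟩ := hg x
    rw [← map_smul, hN a ha, map_zero]
  have t1 : Module.IsTorsionBySet R N (I : Set R) := fun x a => hN a a.2 x
  have t2 : Module.IsTorsionBySet R N' (I : Set R) := fun x a => hN' a a.2 x
  letI := t1.module
  letI := t2.module
  haveI : IsScalarTower R (R ⧸ I) N := t1.isScalarTower (S := R)
  haveI : IsScalarTower R (R ⧸ I) N' := t2.isScalarTower (S := R)
  let g' : N →ₗ[R ⧸ I] N' :=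
    { toFun := g
      map_add' := map_add g
      map_smul' := fun c x => by
        obtain ⟨c, rfl⟩ := Ideal.Quotient.mk_surjective c
        exact map_smul g c x }
  obtain ⟨l, hl⟩ := Module.projective_lifting_property g' (h.liftBaseChange (R ⧸ I)) hg
  refine ⟨(l.restrictScalars R).comp (TensorProduct.mk R (R ⧸ I) P 1), LinearMap.ext fun x => ?_⟩
  have := LinearMap.congr_fun hl (1 ⊗ₜ x)
  simpa [g'] using this

theorem map_smul_top_le {F F' : Type u} [AddCommGroup F] [Module R F] [AddCommGroup F'] [Module R F']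
    (I : Ideal R) (f : F →ₗ[R] F') : (I • ⊤ : Submodule R F) ≤ (I • ⊤ : Submodule R F').comap f := by
  rw [← Submodule.map_le_iff_le_comap, Submodule.map_smul'']
  exact smul_mono_right I le_top

/-- Reduction of endomorphisms modulo `I`. -/
def endQuot (I : Ideal R) (F : Type u) [AddCommGroup F] [Module R F] :
    Module.End R F →+* Module.End R (F ⧸ (I • ⊤ : Submodule R F)) where
  toFun f := (I • ⊤ : Submodule R F).mapQ _ f (map_smul_top_le I f)
  map_one' := Submodule.linearMap_qext _ rfl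
  map_mul' _ _ := Submodule.linearMap_qext _ rfl
  map_zero' := Submodule.linearMap_qext _ rfl
  map_add' _ _ := Submodule.linearMap_qext _ rfl

theorem exists_idempotent_lift {F : Type u} [AddCommGroup F] [Module R F] (I : Ideal R) (hI : IsNilpotent I)
    (e₀ : Module.End R F) (h : ∀ x, e₀ (e₀ x) - e₀ x ∈ (I • ⊤ : Submodule R F)) :
    ∃ e : Module.End R F, (∀ x, e (e x) = e x) ∧ ∀ x, e x - e₀ x ∈ (I • ⊤ : Submodule R F) := by
  obtain ⟨N, hN⟩ := hI
  have hred : IsIdempotentElem (endQuot I F e₀) := by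
    show endQuot I F e₀ * endQuot I F e₀ = endQuot I F e₀
    rw [← map_mul]
    exact Submodule.linearMap_qext _ (LinearMap.ext fun x => (Submodule.Quotient.eq _).2 (h x))
  have hker : ∀ f ∈ RingHom.ker (endQuot I F), IsNilpotent f := fun f hf => by
    have hfI : ∀ x, f x ∈ (I • ⊤ : Submodule R F) := fun x =>
      (Submodule.Quotient.mk_eq_zero _).1 (LinearMap.congr_fun (RingHom.mem_ker.1 hf) (Submodule.Quotient.mk x))
    have hk : ∀ k x, (f ^ k) x ∈ (I ^ k • ⊤ : Submodule R F) := by
      intro k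
      induction k with
      | zero => intro x; simp
      | succ k ih =>
        intro x
        rw [show (f ^ (k + 1)) x = f ((f ^ k) x) by rw [pow_succ']; rfl, pow_succ, Submodule.mul_smul]
        have hm : (I ^ k • (⊤ : Submodule R F)).map f ≤ I ^ k • (I • ⊤ : Submodule R F) := by
          rw [Submodule.map_smul'']
          exact smul_mono_right _ (by rintro _ ⟨z, -, rfl⟩; exact hfI z)
        exact hm ⟨_, ih x, rfl⟩
    exact ⟨N, LinearMap.ext fun x => by have := hk N x; simpa [hN] using this⟩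
  obtain ⟨e, he, hered⟩ := exists_isIdempotentElem_eq_of_ker_isNilpotent (endQuot I F) hker _ ⟨e₀, rfl⟩ hred
  exact ⟨e, fun x => LinearMap.congr_fun he x, fun x =>
    (Submodule.Quotient.eq _).1 (LinearMap.congr_fun hered (Submodule.Quotient.mk x))⟩

theorem ker_inf_smul_le {M : Type u} [AddCommGroup M] [Module R M] [Module.Flat R P]
    (θ : M →ₗ[R] P) (hθ : Function.Surjective θ) (I : Ideal R) :
    LinearMap.ker θ ⊓ I • (⊤ : Submodule R M) ≤ I • LinearMap.ker θ := by
  classical
  rintro m ⟨hm, hmI⟩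
  obtain ⟨c, hcI, hc⟩ := (Submodule.mem_ideal_smul_span_iff_exists_sum I (fun z : M => z) m).1
    (by rwa [Set.range_id', Submodule.span_univ])
  let ι := c.support
  have hsum : ∑ i : ι, c i.1 • i.1 = m := (Finset.sum_coe_sort c.support (fun z => c z • z)).trans hc
  have hrel : ∑ i : ι, c i.1 • θ i.1 = 0 := by
    simp only [← map_smul, ← map_sum, hsum]
    exact hm
  obtain ⟨k, a, w, hw, ha⟩ := Module.Flat.isTrivialRelation_of_sum_smul_eq_zero
    (f := fun i : ι => c i.1) (x := fun i => θ i.1) hrel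
  choose w' hw' using fun j => hθ (w j)
  have : m = ∑ i : ι, c i.1 • (i.1 - ∑ j, a i j • w' j) := by
    simp only [smul_sub, Finset.sum_sub_distrib, Finset.smul_sum, smul_smul]
    rw [Finset.sum_comm (f := fun (i : ι) j => (c i.1 * a i j) • w' j)]
    simp only [← Finset.sum_smul, ha, zero_smul, Finset.sum_const_zero, sub_zero]
    exact hsum.symm
  rw [this]
  refine Submodule.sum_mem _ fun i _ => Submodule.smul_mem_smul (hcI i.1) ?_
  rw [LinearMap.mem_ker, map_sub, map_sum, show θ i.1 = _ from hw i, sub_eq_zero]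
  exact Finset.sum_congr rfl fun j _ => by rw [map_smul, hw']

/-- The range of an idempotent lift maps isomorphically onto a flat module. -/
theorem projective_of_idempotent {F : Type u} [AddCommGroup F] [Module R F] [Module.Projective R F]
    [Module.Flat R P] (I : Ideal R) (hI : IsNilpotent I) (π : F →ₗ[R] P) (hπ : Function.Surjective π)
    (e : Module.End R F) (he : ∀ x, e (e x) = e x)
    (h1 : ∀ x, π (e x) - π x ∈ (I • ⊤ : Submodule R P))
    (h2 : ∀ x, π (e x) = 0 → e x ∈ (I • ⊤ : Submodule R F)) : Module.Projective R P := by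
  obtain ⟨N, hN⟩ := hI
  haveI : Module.Projective R (LinearMap.range e) :=
    Module.Projective.of_split (LinearMap.range e).subtype e.rangeRestrict
      (LinearMap.ext fun ⟨y, x, hx⟩ => Subtype.ext (by show e y = y; rw [← hx, he]))
  let θ : LinearMap.range e →ₗ[R] P := π.comp (LinearMap.range e).subtype
  have hθe : ∀ x, θ (e.rangeRestrict x) = π (e x) := fun _ => rfl
  have hsurj : ∀ k, ∀ y, ∃ z, y - θ z ∈ (I ^ k • ⊤ : Submodule R P) := by
    intro k
    induction k with
    | zero => intro y; exact ⟨0, by simp⟩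
    | succ k ih =>
      intro y
      obtain ⟨z, hz⟩ := ih y
      have hm : (I ^ k • ⊤ : Submodule R P) ≤ LinearMap.range θ ⊔ I ^ k • (I • ⊤ : Submodule R P) := by
        refine Submodule.smul_le.2 fun a ha w _ => ?_
        obtain ⟨x, rfl⟩ := hπ w
        rw [show a • π x = θ (a • e.rangeRestrict x) + a • (π x - π (e x)) by
          rw [map_smul, hθe, smul_sub]; abel]
        refine Submodule.add_mem_sup ⟨_, rfl⟩ (Submodule.smul_mem_smul ha ?_)
        have := neg_mem (h1 x)
        rwa [neg_sub] at this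
      obtain ⟨_, ⟨z', rfl⟩, w, hw, hzw⟩ := Submodule.mem_sup.1 (hm hz)
      refine ⟨z + z', ?_⟩
      rw [map_add, ← sub_sub, ← hzw, add_sub_cancel_left, pow_succ, Submodule.mul_smul]
      exact hw
  have hθ : Function.Surjective θ := fun y => by
    obtain ⟨z, hz⟩ := hsurj N y
    exact ⟨z, (sub_eq_zero.1 (by simpa [hN] using hz)).symm⟩
  have hK : LinearMap.ker θ ≤ I • LinearMap.ker θ := by
    intro z hz
    obtain ⟨x, rfl⟩ := LinearMap.surjective_rangeRestrict e z
    refine ker_inf_smul_le θ hθ I ⟨hz, ?_⟩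
    have hm := Submodule.mem_map_of_mem (f := e.rangeRestrict) (h2 x hz)
    rw [Submodule.map_smul''] at hm
    have heq : e.rangeRestrict (e x) = e.rangeRestrict x := Subtype.ext (he x)
    rw [← heq]
    exact SetLike.le_def.1 (smul_mono_right I le_top) hm
  have hpow : ∀ k, LinearMap.ker θ ≤ I ^ k • LinearMap.ker θ := by
    intro k
    induction k with
    | zero => simp
    | succ k ih =>
      refine ih.trans ?_
      rw [pow_succ, Submodule.mul_smul]
      exact smul_mono_right _ hK
  have hinj : LinearMap.ker θ = ⊥ := by simpa [hN] using hpow N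
  exact Module.Projective.of_equiv (LinearEquiv.ofBijective θ ⟨LinearMap.ker_eq_bot.1 hinj, hθ⟩)

theorem projective_of_flat_of_isNilpotent (I : Ideal R) (hI : IsNilpotent I) [Module.Flat R P]
    (hproj : Module.Projective (R ⧸ I) ((R ⧸ I) ⊗[R] P)) : Module.Projective R P := by
  let π : (P →₀ R) →ₗ[R] P := Finsupp.linearCombination R id
  have hπ : Function.Surjective π := fun x => ⟨Finsupp.single x 1, by rw [Finsupp.linearCombination_single, one_smul, id]⟩
  let IP : Submodule R P := I • ⊤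
  let IF : Submodule R (P →₀ R) := I • ⊤
  have hle : IF ≤ IP.comap π := map_smul_top_le I π
  have hkill : ∀ a ∈ I, ∀ y : (P →₀ R) ⧸ IF, a • y = 0 := fun a ha y => by
    obtain ⟨z, rfl⟩ := IF.mkQ_surjective y
    rw [← map_smul, Submodule.mkQ_apply, Submodule.Quotient.mk_eq_zero]
    exact Submodule.smul_mem_smul ha trivial
  obtain ⟨s, hs⟩ := exists_lift_of_projective_mod I hproj (IF.mapQ IP π hle)
    (fun y => by
      obtain ⟨x, rfl⟩ := IP.mkQ_surjective y
      obtain ⟨z, rfl⟩ := hπ x
      exact ⟨IF.mkQ z, rfl⟩)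
    hkill IP.mkQ
  have hsI : ∀ y ∈ IP, s y = 0 := fun y hy =>
    Submodule.smul_induction_on (p := fun y => s y = 0) hy (fun a ha z _ => by rw [map_smul, hkill a ha])
      fun a b ha hb => by rw [map_add, ha, hb, add_zero]
  obtain ⟨e₀, he₀⟩ := Module.projective_lifting_property IF.mkQ (s.comp π) IF.mkQ_surjective
  have he₀' : ∀ x, IF.mkQ (e₀ x) = s (π x) := fun x => LinearMap.congr_fun he₀ x
  have hπe : ∀ x, π (e₀ x) - π x ∈ IP := fun x =>
    (Submodule.Quotient.eq _).1 ((congrArg (IF.mapQ IP π hle) (he₀' x)).trans (LinearMap.congr_fun hs (π x)))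
  have hidem : ∀ x, e₀ (e₀ x) - e₀ x ∈ IF := fun x => by
    refine (Submodule.Quotient.eq _).1 ?_
    show IF.mkQ (e₀ (e₀ x)) = IF.mkQ (e₀ x)
    rw [he₀', he₀', ← sub_eq_zero, ← map_sub]
    exact hsI _ (hπe x)
  obtain ⟨e, he, hee₀⟩ := exists_idempotent_lift I hI e₀ hidem
  refine projective_of_idempotent I hI π hπ e he (fun x => ?_) fun x hx => ?_
  · rw [show π (e x) - π x = π (e x - e₀ x) + (π (e₀ x) - π x) by rw [map_sub]; abel]
    exact add_mem (hle (hee₀ x)) (hπe x)
  · have h : IF.mkQ (e (e x)) = IF.mkQ (e₀ (e x)) := (Submodule.Quotient.eq _).2 (hee₀ _)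
    rw [he, he₀', hx, map_zero] at h
    exact (Submodule.Quotient.mk_eq_zero _).1 h

theorem projective_of_inf_eq_bot (I J : Ideal R) (hIJ : I ⊓ J = ⊥)
    (hI : Module.Projective (R ⧸ I) ((R ⧸ I) ⊗[R] P)) (hJ : Module.Projective (R ⧸ J) ((R ⧸ J) ⊗[R] P)) :
    Module.Projective R P := by
  let F := P →₀ R
  let π : F →ₗ[R] P := Finsupp.linearCombination R id
  have hπ : Function.Surjective π := fun x => ⟨Finsupp.single x 1, by rw [Finsupp.linearCombination_single, one_smul, id]⟩
  have hle : ∀ A : Ideal R, (A • ⊤ : Submodule R F) ≤ (A • ⊤ : Submodule R P).comap π := fun A => by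
    rw [← Submodule.map_le_iff_le_comap, Submodule.map_smul'']
    exact smul_mono_right A le_top
  have hkill : ∀ (A : Ideal R) (M : Type u) [AddCommGroup M] [Module R M] (a : R), a ∈ A →
      ∀ y : M ⧸ (A • ⊤ : Submodule R M), a • y = 0 := fun A M _ _ a ha y => by
    obtain ⟨z, rfl⟩ := Submodule.mkQ_surjective _ y
    rw [← map_smul, Submodule.mkQ_apply, Submodule.Quotient.mk_eq_zero]
    exact Submodule.smul_mem_smul ha trivial
  let Q : ∀ A : Ideal R, (F ⧸ (A • ⊤ : Submodule R F)) →ₗ[R] (P ⧸ (A • ⊤ : Submodule R P)) := fun A =>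
    (A • ⊤ : Submodule R F).mapQ (A • ⊤ : Submodule R P) π (hle A)
  have hQ : ∀ A, Function.Surjective (Q A) := fun A y => by
    obtain ⟨x, rfl⟩ := Submodule.mkQ_surjective _ y
    obtain ⟨z, rfl⟩ := hπ x
    exact ⟨Submodule.mkQ _ z, rfl⟩
  obtain ⟨s, hs⟩ := exists_lift_of_projective_mod I hI (Q I) (hQ I) (fun a ha y => hkill I F a ha y) (Submodule.mkQ _)
  obtain ⟨t, ht⟩ := exists_lift_of_projective_mod J hJ (Q J) (hQ J) (fun a ha y => hkill J F a ha y) (Submodule.mkQ _)
  have hI' : (I • ⊤ : Submodule R F) ≤ ((I ⊔ J) • ⊤ : Submodule R F).comap LinearMap.id :=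
    Submodule.smul_mono_left le_sup_left
  have hJ' : (J • ⊤ : Submodule R F) ≤ ((I ⊔ J) • ⊤ : Submodule R F).comap LinearMap.id :=
    Submodule.smul_mono_left le_sup_right
  let rI := (I • ⊤ : Submodule R F).mapQ ((I ⊔ J) • ⊤ : Submodule R F) LinearMap.id hI'
  let rJ := (J • ⊤ : Submodule R F).mapQ ((I ⊔ J) • ⊤ : Submodule R F) LinearMap.id hJ'
  let δ := rJ.comp t - rI.comp s
  have hδ : ∀ y, δ y ∈ LinearMap.ker (Q (I ⊔ J)) := fun y => by
    obtain ⟨a, ha⟩ := Submodule.mkQ_surjective _ (s y)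
    obtain ⟨b, hb⟩ := Submodule.mkQ_surjective _ (t y)
    have h1 := LinearMap.congr_fun hs y
    have h2 := LinearMap.congr_fun ht y
    rw [LinearMap.comp_apply, ← ha] at h1
    rw [LinearMap.comp_apply, ← hb] at h2
    have h1' : π a - y ∈ (I • ⊤ : Submodule R P) := (Submodule.Quotient.eq _).1 h1
    have h2' : π b - y ∈ (J • ⊤ : Submodule R P) := (Submodule.Quotient.eq _).1 h2
    rw [LinearMap.mem_ker, LinearMap.sub_apply, LinearMap.comp_apply, LinearMap.comp_apply, ← ha, ← hb, map_sub]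
    show (Submodule.Quotient.mk (π b) : P ⧸ ((I ⊔ J) • ⊤ : Submodule R P)) - Submodule.Quotient.mk (π a) = 0
    rw [← Submodule.Quotient.mk_sub, Submodule.Quotient.mk_eq_zero,
      show π b - π a = (π b - y) - (π a - y) by abel]
    exact sub_mem (Submodule.smul_mono_left le_sup_right h2') (Submodule.smul_mono_left le_sup_left h1')
  have hrker : ∀ z : LinearMap.ker (Q I), rI z.1 ∈ LinearMap.ker (Q (I ⊔ J)) := fun ⟨z, hz⟩ => by
    obtain ⟨a, rfl⟩ := Submodule.mkQ_surjective _ z
    rw [LinearMap.mem_ker] at hz ⊢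
    have h1 : π a ∈ (I • ⊤ : Submodule R P) := (Submodule.Quotient.mk_eq_zero _).1 hz
    exact (Submodule.Quotient.mk_eq_zero _).2 (Submodule.smul_mono_left le_sup_left h1)
  let g : LinearMap.ker (Q I) →ₗ[R] LinearMap.ker (Q (I ⊔ J)) :=
    (rI.comp (LinearMap.ker (Q I)).subtype).codRestrict _ hrker
  have hg : Function.Surjective g := by
    rintro ⟨z, hz⟩
    obtain ⟨x, rfl⟩ := Submodule.mkQ_surjective _ z
    have hx : π x ∈ ((I ⊔ J) • ⊤ : Submodule R P) := (Submodule.Quotient.mk_eq_zero _).1 hz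
    rw [Submodule.sup_smul] at hx
    obtain ⟨a, ha, b, hb, hab⟩ := Submodule.mem_sup.1 hx
    have hlift : ∀ (A : Ideal R), ∀ y ∈ (A • ⊤ : Submodule R P), ∃ w ∈ (A • ⊤ : Submodule R F), π w = y := by
      intro A y hy
      have : (A • ⊤ : Submodule R P) = (A • ⊤ : Submodule R F).map π := by
        rw [Submodule.map_smul'', Submodule.map_top, LinearMap.range_eq_top.2 hπ]
      rw [this] at hy
      exact hy
    obtain ⟨b', hb', rfl⟩ := hlift J b hb
    refine ⟨⟨Submodule.mkQ _ (x - b'), ?_⟩, Subtype.ext ?_⟩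
    · refine (Submodule.Quotient.mk_eq_zero _).2 ?_
      rw [map_sub, ← hab, add_sub_cancel_right]
      exact ha
    · show Submodule.Quotient.mk (x - b') = Submodule.Quotient.mk x
      rw [Submodule.Quotient.eq, sub_sub_cancel_left]
      exact neg_mem (Submodule.smul_mono_left le_sup_right hb')
  obtain ⟨d, hd⟩ := exists_lift_of_projective_mod I hI g hg
    (fun a ha y => Subtype.ext (hkill I F a ha y.1)) (δ.codRestrict _ hδ)
  let s' := s + (LinearMap.ker (Q I)).subtype.comp d
  have hs' : rI.comp s' = rJ.comp t := LinearMap.ext fun y => by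
    have h1 : rI (d y).1 = δ y := congrArg Subtype.val (LinearMap.congr_fun hd y)
    simp only [s', LinearMap.comp_apply, LinearMap.add_apply, Submodule.subtype_apply, map_add, h1]
    simp [δ]
  have hs'π : ∀ y, Q I (s' y) = Submodule.mkQ _ y := fun y => by
    have h1 : Q I (d y).1 = 0 := (d y).2
    simp only [s', LinearMap.add_apply, LinearMap.comp_apply, Submodule.subtype_apply, map_add, h1, add_zero]
    exact LinearMap.congr_fun hs y
  let Φ : F →ₗ[R] (F ⧸ (I • ⊤ : Submodule R F)) × (F ⧸ (J • ⊤ : Submodule R F)) :=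
    LinearMap.prod (Submodule.mkQ _) (Submodule.mkQ _)
  have hΦ : Function.Injective Φ := by
    rw [← LinearMap.ker_eq_bot]
    refine le_bot_iff.1 fun x hx => ?_
    obtain ⟨h1, h2⟩ := Prod.ext_iff.1 (LinearMap.mem_ker.1 hx)
    have h1' : x ∈ (I • ⊤ : Submodule R F) := (Submodule.Quotient.mk_eq_zero _).1 h1
    have h2' : x ∈ (J • ⊤ : Submodule R F) := (Submodule.Quotient.mk_eq_zero _).1 h2
    have hco : ∀ (A : Ideal R), x ∈ (A • ⊤ : Submodule R F) → ∀ i, x i ∈ A := fun A hA i =>
      Submodule.smul_induction_on hA (fun a ha z _ => by rw [Finsupp.smul_apply, smul_eq_mul]; exact A.mul_mem_right _ ha)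
        fun a b ha hb => by rw [Finsupp.add_apply]; exact A.add_mem ha hb
    rw [Submodule.mem_bot]
    ext i
    exact Ideal.mem_bot.1 (hIJ ▸ ⟨hco I h1' i, hco J h2' i⟩)
  have hmem : ∀ y, (s' y, t y) ∈ LinearMap.range Φ := fun y => by
    obtain ⟨a, ha⟩ := Submodule.mkQ_surjective _ (s' y)
    obtain ⟨b, hb⟩ := Submodule.mkQ_surjective _ (t y)
    have h := LinearMap.congr_fun hs' y
    rw [LinearMap.comp_apply, LinearMap.comp_apply, ← ha, ← hb] at h
    have h' : a - b ∈ ((I ⊔ J) • ⊤ : Submodule R F) := (Submodule.Quotient.eq _).1 h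
    rw [Submodule.sup_smul] at h'
    obtain ⟨c, hc, e, he, hce⟩ := Submodule.mem_sup.1 h'
    refine ⟨a - c, Prod.ext ?_ ?_⟩
    · show Submodule.mkQ _ (a - c) = s' y
      rw [map_sub, ha, Submodule.mkQ_apply, (Submodule.Quotient.mk_eq_zero _).2 hc, sub_zero]
    · show Submodule.mkQ _ (a - c) = t y
      rw [← hb, show a - c = b + e by rw [eq_sub_of_add_eq' hce]; abel,
        map_add, Submodule.mkQ_apply _ e, (Submodule.Quotient.mk_eq_zero _).2 he, add_zero]
  let σ : P →ₗ[R] F := (LinearEquiv.ofInjective Φ hΦ).symm.toLinearMap.comp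
    ((s'.prod t).codRestrict (LinearMap.range Φ) hmem)
  have hσ : ∀ y, Φ (σ y) = (s' y, t y) := fun y =>
    congrArg Subtype.val ((LinearEquiv.ofInjective Φ hΦ).apply_symm_apply ⟨_, hmem y⟩)
  let ε : Module.End R P := LinearMap.id - π.comp σ
  have hε : ∀ y, ε y ∈ (I • ⊤ : Submodule R P) ∧ ε y ∈ (J • ⊤ : Submodule R P) := fun y => by
    obtain ⟨h1, h2⟩ := Prod.ext_iff.1 (hσ y)
    constructor
    · have h : Submodule.Quotient.mk (π (σ y)) = (Submodule.Quotient.mk y : P ⧸ (I • ⊤ : Submodule R P)) :=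
        (congrArg (Q I) h1).trans (hs'π y)
      have := neg_mem ((Submodule.Quotient.eq _).1 h)
      rwa [neg_sub] at this
    · have h : Submodule.Quotient.mk (π (σ y)) = (Submodule.Quotient.mk y : P ⧸ (J • ⊤ : Submodule R P)) :=
        (congrArg (Q J) h2).trans (LinearMap.congr_fun ht y)
      have := neg_mem ((Submodule.Quotient.eq _).1 h)
      rwa [neg_sub] at this
  have hε2 : ∀ y, ε (ε y) = 0 := fun y => by
    have : ∀ x ∈ (I • ⊤ : Submodule R P), ε x = 0 := fun x hx =>
      Submodule.smul_induction_on hx (fun a ha z _ => by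
        rw [map_smul]
        refine Submodule.smul_induction_on (hε z).2 (fun b hb w _ => ?_) fun u v hu hv => by rw [smul_add, hu, hv, add_zero]
        rw [smul_smul, (show a * b = 0 from Ideal.mem_bot.1 (hIJ.le (Submodule.mem_inf.2 ⟨I.mul_mem_right b ha, J.mul_mem_left a hb⟩))), zero_smul])
        fun u v hu hv => by rw [map_add, hu, hv, add_zero]
    exact this _ (hε y).1
  refine Module.Projective.of_split (σ.comp (LinearMap.id + ε)) π (LinearMap.ext fun y => ?_)
  have hπσ : ∀ x, π (σ x) = x - ε x := fun x => by simp [ε]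
  simp only [LinearMap.comp_apply, LinearMap.add_apply, LinearMap.id_apply]
  rw [map_add, map_add, hπσ, hπσ, hε2, sub_zero, sub_add_cancel]

end Groth.Agent.CAlgProj
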